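import Cfsg.Agent.CosetCert.HeldSp.Data

/-! Machine-generated checks. -/

set_option maxRecDepth 10000

namespace Cfsg.Agent.CosetCert.HeldSp

open Cfsg.Agent.CosetCert

/-- Everything to check at one point. -/
noncomputable def pointOK (i : ℕ) : Bool :=
  ((List.range data.cols.length).all fun l => data.edgeOK i (l + 1)) &&
    (((List.range data.cols.length).all fun l => data.lookOK i (l + 1)) && data.treeOK i)

theorem point_block0 : allB (fun i => Nat.ble data.N i || pointOK i) 10 0 = true := by
  decide +kernel

theorem point_block1 : allB (fun i => Nat.ble data.N i || pointOK i) 10 1024 = true := by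
  decide +kernel

theorem point_block2 : allB (fun i => Nat.ble data.N i || pointOK i) 10 2048 = true := by
  decide +kernel

end Cfsg.Agent.CosetCert.HeldSp
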