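import Cfsg.Agent.CosetCert.HeldSp.Data

/-! Machine-generated checks. -/

set_option maxRecDepth 10000

namespace Cfsg.Agent.CosetCert.HeldSp

open Cfsg.Agent.CosetCert

theorem spec_block0 : allB (fun i => Nat.ble data.N i || data.specs.all (data.specOK i)) 10 0 = true := by
  decide +kernel

theorem spec_block1 : allB (fun i => Nat.ble data.N i || data.specs.all (data.specOK i)) 10 1024 = true := by
  decide +kernel

theorem spec_block2 : allB (fun i => Nat.ble data.N i || data.specs.all (data.specOK i)) 10 2048 = true := by
  decide +kernel

end Cfsg.Agent.CosetCert.HeldSp
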